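import Groth.Agent.ConormalSecLib.Grpd
import Groth.Agent.KFlatLib.PerfectPull
import Groth.Agent.KFlatLib.QCohPull
import Mathlib.CategoryTheory.Monoidal.Cartesian.Grp
import Mathlib.CategoryTheory.Monoidal.Cartesian.Over

/-!
# Differentials of a group scheme
-/

set_option autoImplicit false
set_option linter.style.haveILetI false
set_option backward.isDefEq.respectTransparency false
universe u
open CategoryTheory CategoryTheory.Limits AlgebraicGeometry MonoidalCategory CartesianMonoidalCategory
open MonObj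

noncomputable section

namespace ConormalSecLib

variable {S : Scheme.{u}} (G : Over S) [GrpObj G]

/-- `(a, b) ↦ (a, a b)` -/
def shearIso : G ⊗ G ≅ G ⊗ G where
  hom := CartesianMonoidalCategory.lift (fst G G) (fst G G * snd G G)
  inv := CartesianMonoidalCategory.lift (fst G G) ((fst G G)⁻¹ * snd G G)
  hom_inv_id := by
    apply hom_ext
    · rw [Category.assoc, lift_fst, lift_fst, Category.id_comp]
    · rw [Category.assoc, lift_snd, comp_mul, GrpObj.comp_inv, lift_fst, lift_snd, inv_mul_cancel_left,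
        Category.id_comp]
  inv_hom_id := by
    apply hom_ext
    · rw [Category.assoc, lift_fst, lift_fst, Category.id_comp]
    · rw [Category.assoc, lift_snd, comp_mul, lift_fst, lift_snd, mul_inv_cancel_left, Category.id_comp]

theorem unit_left_hom : η[G].left ≫ G.hom = 𝟙 S := Over.w (η[G])

theorem nonempty_omega_iso_grp [QuasiSeparated G.hom] :
    Nonempty (Omega.sheaf G.hom ≅ (Scheme.Modules.pullback G.hom).obj (Omega.conormal η[G].left)) := by
  have h1 : IsPullback (snd G G).left (fst G G).left G.hom G.hom := (IsPullback.of_hasPullback G.hom G.hom).flip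
  have h2 : IsPullback ((fst G G)⁻¹ * snd G G).left (fst G G).left G.hom G.hom := by
    refine h1.of_iso ((Over.forget S).mapIso (shearIso G)) (Iso.refl _) (Iso.refl _) (Iso.refl _) ?_ ?_
      (by simp) (by simp)
    · show (snd G G).left ≫ 𝟙 _ = ((shearIso G).hom).left ≫ ((fst G G)⁻¹ * snd G G).left
      rw [Category.comp_id, ← Over.comp_left]
      refine congrArg CommaMorphism.left ?_
      show snd G G = CartesianMonoidalCategory.lift (fst G G) (fst G G * snd G G) ≫ ((fst G G)⁻¹ * snd G G)
      rw [comp_mul, GrpObj.comp_inv, lift_fst, lift_snd, inv_mul_cancel_left]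
    · show (fst G G).left ≫ 𝟙 _ = ((shearIso G).hom).left ≫ (fst G G).left
      rw [Category.comp_id, ← Over.comp_left]
      exact congrArg CommaMorphism.left (lift_fst _ _).symm
  refine ⟨(nonempty_iso_of_div G.hom G.hom η[G].left (unit_left_hom G) (fst G G).left (snd G G).left _
    (CartesianMonoidalCategory.lift (𝟙 G) (𝟙 G)).left h1 h2 ?_ ?_).some.symm⟩
  · rw [← Over.comp_left, lift_snd]
    rfl
  · rw [← Over.comp_left, comp_mul, GrpObj.comp_inv, lift_fst, lift_snd, inv_mul_cancel,
      show (1 : G ⟶ G) = toUnit G ≫ η[G] from rfl, Over.comp_left]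
    congr 1

theorem isQCoh_conormal_unit [QuasiSeparated G.hom] : Coh.IsQCoh (Omega.conormal η[G].left) := by
  haveI : QuasiCompact (η[G].left ≫ G.hom) := by
    rw [unit_left_hom]; exact @AlgebraicGeometry.quasiCompact_of_isIso _ _ _ (CategoryTheory.IsIso.id S)
  haveI : QuasiCompact η[G].left := QuasiCompact.of_comp η[G].left G.hom
  have hd := OmegaAffLib.isUniversal_dOmega (f := G.hom)
  haveI := OmegaAffLib.isQCoh_of_isUniversal hd
  obtain ⟨κ⟩ := nonempty_conormal_iso η[G].left G.hom (unit_left_hom G) hd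
  haveI := KFlatLib.isQCoh_pullback η[G].left (Omega.sheaf G.hom)
  exact QCohLib.isQCoh_of_iso κ.symm

/-- a quasi-coherent module over a field is free -/
theorem exists_iso_coprod (K : Type u) [Field K] (M : (Spec (CommRingCat.of K)).Modules) [Coh.IsQCoh M] :
    ∃ I : Type u, Nonempty (M ≅ ∐ fun _ : I => Coh.structureModule (Spec (CommRingCat.of K))) := by
  let V : ModuleCat (CommRingCat.of K) := (modulesSpecToSheaf.obj M).presheaf.obj (.op ⊤)
  haveI : Module.Free (CommRingCat.of K) V := Module.Free.of_divisionRing K V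
  let b := Module.Free.chooseBasis (CommRingCat.of K) V
  let I₀ := Module.Free.ChooseBasisIndex (CommRingCat.of K) V
  let e : V ≅ ModuleCat.of (CommRingCat.of K) (I₀ →₀ CommRingCat.of K) := b.repr.toModuleIso
  haveI : IsIso (Scheme.Modules.fromTildeΓ (R := CommRingCat.of K) M) :=
    (isQuasicoherent_iff_isIso_fromTildeΓ (R := CommRingCat.of K) M).1 ‹_›
  let a : M ≅ (tilde.functor (CommRingCat.of K)).obj V :=
    (@asIso _ _ _ _ (Scheme.Modules.fromTildeΓ (R := CommRingCat.of K) M) this).symm
  exact ⟨I₀, ⟨a ≪≫ (tilde.functor (CommRingCat.of K)).mapIso e ≪≫ tildeFinsupp I₀⟩⟩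

theorem exists_iso_coprod_pullback {X : Scheme.{u}} (K : Type u) [Field K] (f : X ⟶ S)
    (e : S ≅ Spec (CommRingCat.of K)) (M : S.Modules) [Coh.IsQCoh M] :
    ∃ I : Type u, Nonempty ((Scheme.Modules.pullback f).obj M ≅ ∐ fun _ : I => Coh.structureModule X) := by
  haveI := KFlatLib.isQCoh_pullback e.inv M
  obtain ⟨I, ⟨θ⟩⟩ := exists_iso_coprod K ((Scheme.Modules.pullback e.inv).obj M)
  haveI : PreservesColimitsOfSize.{u, u} (Scheme.Modules.pullback (f ≫ e.hom)) :=
    (Scheme.Modules.pullbackPushforwardAdjunction (f ≫ e.hom)).leftAdjoint_preservesColimits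
  exact ⟨I, ⟨(Scheme.Modules.pullbackCongr (show f = (f ≫ e.hom) ≫ e.inv by simp)).app M ≪≫
    ((Scheme.Modules.pullbackComp (f ≫ e.hom) e.inv).app M).symm ≪≫
    (Scheme.Modules.pullback (f ≫ e.hom)).mapIso θ ≪≫
    PreservesCoproduct.iso (Scheme.Modules.pullback (f ≫ e.hom)) _ ≪≫
    Sigma.mapIso (fun _ => KFlatLib.pullUnitIso (f ≫ e.hom))⟩⟩

end ConormalSecLib

end
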