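import Groth.Agent.OmegaAffLib.Exact

/-!
# The conormal sheaf of a section
-/

set_option autoImplicit false
set_option linter.style.haveILetI false
universe u
open CategoryTheory CategoryTheory.Limits AlgebraicGeometry TopologicalSpace Opposite
open ModGlueLib (rs)

noncomputable section

namespace ConormalSecLib

open OmegaSh (pullSect conormalSect idealSect strSect idealModι_app_injective res_res)

variable {X Z S : Scheme.{u}}

theorem rs_self {M : Z.Modules} {U : Z.Opens} {h : U ≤ U} (x : Γ(M, U)) : rs M h x = x := by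
  simp [rs]

section Ideal

variable (i : Z ⟶ X)

/-- a section killed by a quasi-compact morphism dies in its scheme-theoretic image -/
theorem subschemeι_app_eq_zero [QuasiCompact i] {W : X.Opens} {x : Γ(X, W)} (hx : i.app W x = 0) :
    i.ker.subschemeι.app W x = 0 := by
  let ι := i.ker.subschemeι
  refine i.ker.subscheme.sheaf.eq_of_locally_eq'
    (fun V : {V : X.affineOpens // (V : X.Opens) ≤ W} => ι ⁻¹ᵁ (V.1 : X.Opens))
    (ι ⁻¹ᵁ W) (fun V => (Opens.map ι.base).map (homOfLE V.2)) ?_ _ _ ?_
  · intro z hz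
    obtain ⟨_, ⟨V, hV, rfl⟩, hzV, hVW⟩ :=
      X.isBasis_affineOpens.exists_subset_of_mem_open hz W.isOpen
    exact Opens.mem_iSup.mpr ⟨⟨⟨V, hV⟩, hVW⟩, hzV⟩
  · intro V
    change i.ker.subscheme.presheaf.map ((Opens.map ι.base).map (homOfLE V.2)).op (ι.app W x) =
      i.ker.subscheme.presheaf.map ((Opens.map ι.base).map (homOfLE V.2)).op 0
    rw [map_zero, ← ConcreteCategory.comp_apply]
    erw [← Scheme.Hom.naturality ι (homOfLE V.2).op]
    rw [ConcreteCategory.comp_apply]
    have hmem : X.presheaf.map (homOfLE V.2).op x ∈ i.ker.ideal V.1 := by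
      rw [Scheme.Hom.ker_apply, RingHom.mem_ker]
      refine (congr($(i.naturality (homOfLE V.2).op) x)).trans ?_
      rw [ConcreteCategory.comp_apply, hx, map_zero]
    rw [← Scheme.IdealSheafData.ker_subschemeι_app, RingHom.mem_ker] at hmem
    exact hmem

/-- sections of the ideal are killed by the morphism -/
theorem app_idealSect (U : X.Opens) (s : Γ(ClSub.idealMod i.ker, U)) :
    i.app U (idealSect i.ker U s) = 0 := by
  have h0 : i.ker.subschemeι.app U (idealSect i.ker U s) = 0 :=
    congr((($(kernel.condition (ClSub.toSubscheme i.ker))).app U) s)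
  suffices ∀ j : Z ⟶ X, i.toImage ≫ i.imageι = j → j.app U (idealSect i.ker U s) = 0 from
    this i (Scheme.Hom.toImage_imageι i)
  intro j hj
  subst hj
  rw [Scheme.Hom.comp_app]
  refine (congrArg (i.toImage.app _) (show i.imageι.app U (idealSect i.ker U s) = 0 from h0)).trans ?_
  exact map_zero _

theorem idealSect_smul (U : X.Opens) (r : Γ(X, U)) (s : Γ(ClSub.idealMod i.ker, U)) :
    idealSect i.ker U (r • s) = r * idealSect i.ker U s :=
  congrArg (OmegaSh.fnSect X U) (Scheme.Modules.Hom.app_smul (ClSub.idealModι i.ker) r s)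

theorem idealSect_map {U V : X.Opens} (e : V ≤ U) (s : Γ(ClSub.idealMod i.ker, U)) :
    idealSect i.ker V ((ClSub.idealMod i.ker).presheaf.map (homOfLE e).op s) =
      X.presheaf.map (homOfLE e).op (idealSect i.ker U s) :=
  congrArg (OmegaSh.fnSect X V) (OmegaSh.idealModι_app_map _ i.ker e s)

theorem idealSect_injective (U : X.Opens) : Function.Injective (idealSect i.ker U) :=
  fun _ _ h => idealModι_app_injective _ i.ker h

/-- the section of the ideal with given image -/
def lift [QuasiCompact i] (U : X.Opens) (x : Γ(X, U)) (hx : i.app U x = 0) :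
    Γ(ClSub.idealMod i.ker, U) :=
  OmegaSh.kerLift (ClSub.toSubscheme i.ker) U (strSect X U x)
    ((OmegaSh.toSubscheme_app_strSect _ i.ker x).trans (subschemeι_app_eq_zero i hx))

theorem idealSect_lift [QuasiCompact i] (U : X.Opens) (x : Γ(X, U)) (hx : i.app U x = 0) :
    idealSect i.ker U (lift i U x hx) = x :=
  congrArg (OmegaSh.fnSect X U) (OmegaSh.ι_kerLift (ClSub.toSubscheme i.ker) U (strSect X U x) _)

theorem res_conormalSect_smul {W : X.Opens} {V : Z.Opens} (h : V ≤ i ⁻¹ᵁ W) (r : Γ(X, W))
    (x : Γ(ClSub.idealMod i.ker, W)) :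
    (Omega.conormal i).presheaf.map (homOfLE h).op (conormalSect i W (r • x)) =
      Z.presheaf.map (homOfLE h).op (i.app W r) •
        (Omega.conormal i).presheaf.map (homOfLE h).op (conormalSect i W x) :=
  (congrArg _ (OmegaSh.pullSect_smul i _ W r x)).trans ((Omega.conormal i).map_smul _ _ _)

theorem conormal_hom_ext {M : Z.Modules} {a b : Omega.conormal i ⟶ M}
    (h : ∀ (U : X.Opens) (s : Γ(ClSub.idealMod i.ker, U)),
      a.app (i ⁻¹ᵁ U) (conormalSect i U s) = b.app (i ⁻¹ᵁ U) (conormalSect i U s)) : a = b := by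
  apply ((Scheme.Modules.pullbackPushforwardAdjunction i).homEquiv _ _).injective
  refine Scheme.Modules.hom_ext _ _ fun U => ConcreteCategory.hom_ext _ _ fun s => ?_
  rw [Adjunction.homEquiv_unit, Adjunction.homEquiv_unit]
  exact h U s

end Ideal

section Diff

variable (i : Z ⟶ X) {f : X ⟶ S} {Ω : X.Modules} (d : OmegaSh.Der f Ω)

/-- differentiate a section of the ideal -/
def diffSect (U : X.Opens) :
    Γ(ClSub.idealMod i.ker, U) →+ Γ((Scheme.Modules.pullback i).obj Ω, i ⁻¹ᵁ U) :=
  (pullSect i Ω U).hom.comp ((d.app U).comp (idealSect i.ker U))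

theorem diffSect_apply (U : X.Opens) (s : Γ(ClSub.idealMod i.ker, U)) :
    diffSect i d U s = pullSect i Ω U (d.app U (idealSect i.ker U s)) := rfl

theorem diffSect_smul (U : X.Opens) (r : Γ(X, U)) (s : Γ(ClSub.idealMod i.ker, U)) :
    diffSect i d U (r • s) = i.app U r • diffSect i d U s := by
  simp only [diffSect_apply]
  rw [idealSect_smul, OmegaAffLib.der_mul, map_add, OmegaSh.pullSect_smul, OmegaSh.pullSect_smul,
    app_idealSect, zero_smul, add_zero]

theorem exists_conormalDiff :
    ∃ φ : Omega.conormal i ⟶ (Scheme.Modules.pullback i).obj Ω, OmegaSh.IsConormalDiff i d φ := by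
  let ψ : ClSub.idealMod i.ker ⟶ (Scheme.Modules.pushforward i).obj ((Scheme.Modules.pullback i).obj Ω) :=
    ⟨PresheafOfModules.homMk (M₁ := (ClSub.idealMod i.ker).val)
      (M₂ := ((Scheme.Modules.pushforward i).obj ((Scheme.Modules.pullback i).obj Ω)).val)
      { app := fun W => AddCommGrpCat.ofHom
          (diffSect i d W.unop)
        naturality := fun W W' e => by
          ext s
          show diffSect i d W'.unop ((ClSub.idealMod i.ker).presheaf.map (homOfLE e.unop.le).op s) = _
          simp only [diffSect_apply]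
          rw [idealSect_map, OmegaAffLib.der_rs]
          exact OmegaSh.pullSect_map i Ω e.unop.le _ }
      (fun W r s => diffSect_smul i d W.unop r s)⟩
  refine ⟨((Scheme.Modules.pullbackPushforwardAdjunction i).homEquiv _ _).symm ψ, fun U s => ?_⟩
  have h := congr((($(((Scheme.Modules.pullbackPushforwardAdjunction i).homEquiv _ _).apply_symm_apply ψ)).app U) s)
  rw [Adjunction.homEquiv_unit] at h
  exact h

end Diff

section Retr

variable (i : Z ⟶ X) (g : X ⟶ Z) (hgi : i ≫ g = 𝟙 Z)

/-- `U ∩ g⁻¹ i⁻¹ U` -/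
abbrev nbhd (U : X.Opens) : X.Opens := U ⊓ g ⁻¹ᵁ (i ⁻¹ᵁ U)

include hgi in
theorem le_preimage_nbhd (U : X.Opens) : i ⁻¹ᵁ U ≤ i ⁻¹ᵁ nbhd i g U := fun z hz => by
  refine ⟨hz, ?_⟩
  show i (g (i z)) ∈ U
  rw [← Scheme.Hom.comp_apply i g, hgi]
  exact hz

theorem nbhd_mono {U V : X.Opens} (e : V ≤ U) : nbhd i g V ≤ nbhd i g U :=
  inf_le_inf e (g.preimage_mono (i.preimage_mono e))

/-- `a − g♯ i♯ a` -/
def secDiff (U : X.Opens) (a : Γ(X, U)) : Γ(X, nbhd i g U) :=
  X.presheaf.map (homOfLE inf_le_left).op a - g.appLE (i ⁻¹ᵁ U) (nbhd i g U) inf_le_right (i.app U a)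

include hgi in
theorem app_secDiff (U : X.Opens) (a : Γ(X, U)) : i.app (nbhd i g U) (secDiff i g U a) = 0 := by
  rw [secDiff, map_sub, sub_eq_zero]
  simp only [← ConcreteCategory.comp_apply, Scheme.Hom.app_eq_appLE, Scheme.Hom.map_appLE,
    Scheme.Hom.appLE_comp_appLE]
  exact congr($(OmegaSh.appLE_congr_hom (show i = i ≫ g ≫ i by rw [reassoc_of% hgi]) _ _) a)

theorem secDiff_add (U : X.Opens) (a b : Γ(X, U)) :
    secDiff i g U (a + b) = secDiff i g U a + secDiff i g U b := by
  simp only [secDiff, map_add]; abel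

theorem secDiff_mul (U : X.Opens) (a b : Γ(X, U)) :
    secDiff i g U (a * b) = X.presheaf.map (homOfLE inf_le_left).op a * secDiff i g U b +
      g.appLE (i ⁻¹ᵁ U) (nbhd i g U) inf_le_right (i.app U b) * secDiff i g U a := by
  simp only [secDiff, map_mul]; ring

theorem secDiff_map {U V : X.Opens} (e : V ≤ U) (a : Γ(X, U)) :
    secDiff i g V (X.presheaf.map (homOfLE e).op a) =
      X.presheaf.map (homOfLE (nbhd_mono i g e)).op (secDiff i g U a) := by
  simp only [secDiff, map_sub, ← ConcreteCategory.comp_apply, Scheme.Hom.appLE_map,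
    Scheme.Hom.app_eq_appLE, Scheme.Hom.map_appLE, Category.assoc, Scheme.Hom.appLE_comp_appLE,
    ← Functor.map_comp, ← op_comp, homOfLE_comp]

theorem secDiff_app {f : X ⟶ S} (hgS : g ≫ i ≫ f = f) (O : S.Opens) (c : Γ(S, O)) :
    secDiff i g (f ⁻¹ᵁ O) (f.app O c) = 0 := by
  rw [secDiff, sub_eq_zero]
  simp only [← ConcreteCategory.comp_apply, Scheme.Hom.app_eq_appLE, Scheme.Hom.appLE_map,
    Scheme.Hom.appLE_comp_appLE]
  exact congr($(OmegaSh.appLE_congr_hom (show f = (g ≫ i) ≫ f by rw [Category.assoc, hgS]) _ _) c)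

variable [QuasiCompact i]

/-- the class of `a − g♯ i♯ a` in the conormal sheaf -/
def secSect (U : X.Opens) (a : Γ(X, U)) : Γ(Omega.conormal i, i ⁻¹ᵁ U) :=
  rs (Omega.conormal i) (le_preimage_nbhd i g hgi U)
    (conormalSect i (nbhd i g U) (lift i _ (secDiff i g U a) (app_secDiff i g hgi U a)))

theorem secSect_add (U : X.Opens) (a b : Γ(X, U)) :
    secSect i g hgi U (a + b) = secSect i g hgi U a + secSect i g hgi U b := by
  have h : lift i _ _ (app_secDiff i g hgi U (a + b)) =
      lift i _ _ (app_secDiff i g hgi U a) + lift i _ _ (app_secDiff i g hgi U b) := by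
    apply idealSect_injective
    rw [map_add, idealSect_lift, idealSect_lift, idealSect_lift, secDiff_add]
  simp only [secSect, rs, h, map_add]

theorem secSect_mul (U : X.Opens) (a b : Γ(X, U)) :
    secSect i g hgi U (a * b) =
      i.app U a • secSect i g hgi U b + i.app U b • secSect i g hgi U a := by
  have h : lift i _ _ (app_secDiff i g hgi U (a * b)) =
      X.presheaf.map (homOfLE (inf_le_left : nbhd i g U ≤ U)).op a • lift i _ _ (app_secDiff i g hgi U b) +
        g.appLE (i ⁻¹ᵁ U) (nbhd i g U) inf_le_right (i.app U b) •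
          lift i _ _ (app_secDiff i g hgi U a) := by
    apply idealSect_injective
    rw [map_add, idealSect_smul, idealSect_smul, idealSect_lift, idealSect_lift, idealSect_lift,
      secDiff_mul]
  have e1 : Z.presheaf.map (homOfLE (le_preimage_nbhd i g hgi U)).op
      (i.app (nbhd i g U) (X.presheaf.map (homOfLE inf_le_left).op a)) = i.app U a := by
    simp only [← ConcreteCategory.comp_apply, Scheme.Hom.app_eq_appLE, Scheme.Hom.map_appLE,
      Scheme.Hom.appLE_map]
  have e2 : Z.presheaf.map (homOfLE (le_preimage_nbhd i g hgi U)).op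
      (i.app (nbhd i g U) (g.appLE (i ⁻¹ᵁ U) (nbhd i g U) inf_le_right (i.app U b))) = i.app U b := by
    generalize i.app U b = y
    simp only [← ConcreteCategory.comp_apply, Scheme.Hom.app_eq_appLE,
      Scheme.Hom.appLE_comp_appLE, Scheme.Hom.appLE_map]
    rw [OmegaSh.id_appLE_eq_id hgi]
    rfl
  simp only [secSect, rs]
  rw [h, map_add, map_add, res_conormalSect_smul, res_conormalSect_smul, e1, e2]

theorem secSect_map {U V : X.Opens} (e : V ≤ U) (a : Γ(X, U)) :
    secSect i g hgi V (X.presheaf.map (homOfLE e).op a) =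
      rs (Omega.conormal i) (i.preimage_mono e) (secSect i g hgi U a) := by
  have h : lift i _ _ (app_secDiff i g hgi V (X.presheaf.map (homOfLE e).op a)) =
      (ClSub.idealMod i.ker).presheaf.map (homOfLE (nbhd_mono i g e)).op
        (lift i _ _ (app_secDiff i g hgi U a)) := by
    apply idealSect_injective
    rw [idealSect_map, idealSect_lift, idealSect_lift, secDiff_map]
  simp only [secSect, h, conormalSect]
  erw [OmegaSh.pullSect_map]
  exact (ModGlueLib.rs_rs _ _ _ _).trans (ModGlueLib.rs_rs _ _ _ _).symm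

variable {f : X ⟶ S} (hgS : g ≫ i ≫ f = f)

/-- the derivation `a ↦ [a − g♯ i♯ a]` -/
def secDer : OmegaSh.Der f ((Scheme.Modules.pushforward i).obj (Omega.conormal i)) where
  d {W} := AddMonoidHom.mk' (fun a => secSect i g hgi W.unop a) (secSect_add i g hgi W.unop)
  d_mul {W} a b := secSect_mul i g hgi W.unop a b
  d_map {W W'} e a := secSect_map i g hgi e.unop.le a
  d_app {O} c := by
    show secSect i g hgi (f ⁻¹ᵁ O.unop) (f.app O.unop c) = 0
    have h : lift i _ _ (app_secDiff i g hgi (f ⁻¹ᵁ O.unop) (f.app O.unop c)) = 0 := by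
      apply idealSect_injective
      rw [idealSect_lift, map_zero, secDiff_app i g hgS]
    simp only [secSect, rs, h, map_zero]

include hgS in
theorem exists_retraction {Ω : X.Modules} {d : OmegaSh.Der f Ω} (hd : OmegaSh.IsUniversal d) :
    ∃ r : (Scheme.Modules.pullback i).obj Ω ⟶ Omega.conormal i, ∀ (U : X.Opens) (a : Γ(X, U)),
      r.app (i ⁻¹ᵁ U) (pullSect i Ω U (d.app U a)) = secSect i g hgi U a := by
  obtain ⟨α, hα, -⟩ := hd _ (secDer i g hgi hgS)
  refine ⟨((Scheme.Modules.pullbackPushforwardAdjunction i).homEquiv _ _).symm α, fun U a => ?_⟩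
  have h := congr((($(((Scheme.Modules.pullbackPushforwardAdjunction i).homEquiv _ _).apply_symm_apply α)).app U)
    (d.app U a))
  rw [Adjunction.homEquiv_unit] at h
  exact h.trans (congrArg (fun D : OmegaSh.Der f _ => D.app U a) hα)

theorem secSect_idealSect (U : X.Opens) (s : Γ(ClSub.idealMod i.ker, U)) :
    secSect i g hgi U (idealSect i.ker U s) = conormalSect i U s := by
  have h : lift i _ _ (app_secDiff i g hgi U (idealSect i.ker U s)) =
      (ClSub.idealMod i.ker).presheaf.map (homOfLE inf_le_left).op s := by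
    apply idealSect_injective
    rw [idealSect_lift, idealSect_map, secDiff, app_idealSect, map_zero, sub_zero]
  simp only [secSect, h, conormalSect]
  erw [OmegaSh.pullSect_map]
  exact (ModGlueLib.rs_rs _ _ _ _).trans (rs_self _)

end Retr

end ConormalSecLib

end
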