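import Groth.Agent.ConormalSecLib.Basic

/-!
# The conormal sequence of an immersion with a left inverse
-/

set_option autoImplicit false
set_option linter.style.haveILetI false
universe u
open CategoryTheory CategoryTheory.Limits AlgebraicGeometry TopologicalSpace Opposite
open ModGlueLib (rs rs_rs app_rs)

noncomputable section

namespace ConormalSecLib

open OmegaSh (pullSect conormalSect idealSect)

variable {X Z S : Scheme.{u}} (i : Z ⟶ X) (g : X ⟶ Z) (hgi : i ≫ g = 𝟙 Z)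
  {f : X ⟶ S} (hgS : g ≫ i ≫ f = f) {Ω : X.Modules} {d : OmegaSh.Der f Ω}

include hgi in
theorem le_preimage_preimage (V : Z.Opens) : V ≤ i ⁻¹ᵁ (g ⁻¹ᵁ V) := fun z hz => by
  show g (i z) ∈ V
  rw [← Scheme.Hom.comp_apply i g, hgi]
  exact hz

include hgi in
theorem res_app_app (V : Z.Opens) (b : Γ(Z, V)) :
    Z.presheaf.map (homOfLE (le_preimage_preimage i g hgi V)).op (i.app (g ⁻¹ᵁ V) (g.app V b)) = b := by
  simp only [← ConcreteCategory.comp_apply, Scheme.Hom.app_eq_appLE, Scheme.Hom.appLE_comp_appLE,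
    Scheme.Hom.appLE_map]
  rw [OmegaSh.id_appLE_eq_id hgi]
  rfl

variable (d) in
/-- `b ↦ d (g♯ b)` pulled back to the section -/
def pullDer (V : Z.Opens) : Γ(Z, V) →+ Γ((Scheme.Modules.pullback i).obj Ω, V) :=
  (((Scheme.Modules.pullback i).obj Ω).presheaf.map
      (homOfLE (le_preimage_preimage i g hgi V)).op).hom.comp
    ((pullSect i Ω (g ⁻¹ᵁ V)).hom.comp ((d.app (g ⁻¹ᵁ V)).comp (g.app V).hom.toAddMonoidHom))

theorem pullDer_apply (V : Z.Opens) (b : Γ(Z, V)) :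
    pullDer i g hgi d V b = rs ((Scheme.Modules.pullback i).obj Ω) (le_preimage_preimage i g hgi V)
      (pullSect i Ω (g ⁻¹ᵁ V) (d.app (g ⁻¹ᵁ V) (g.app V b))) := rfl

include hgS in
/-- the derivation on `Z` giving the splitting -/
def sectionDer : OmegaSh.Der (i ≫ f) ((Scheme.Modules.pullback i).obj Ω) where
  d {V} := pullDer i g hgi d V.unop
  d_mul {V} a b := by
    show pullDer i g hgi d V.unop (a * b) = (show Γ(Z, V.unop) from a) • pullDer i g hgi d V.unop b +
      (show Γ(Z, V.unop) from b) • pullDer i g hgi d V.unop a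
    simp only [pullDer_apply, map_mul]
    rw [OmegaAffLib.der_mul, map_add, OmegaSh.pullSect_smul, OmegaSh.pullSect_smul]
    simp only [rs]
    rw [map_add, Scheme.Modules.map_smul, Scheme.Modules.map_smul, res_app_app i g hgi, res_app_app i g hgi]
  d_map {V V'} e a := by
    show pullDer i g hgi d V'.unop (Z.presheaf.map (homOfLE e.unop.le).op a) =
      rs _ e.unop.le (pullDer i g hgi d V.unop a)
    have h : g.app V'.unop (Z.presheaf.map (homOfLE e.unop.le).op a) =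
        X.presheaf.map (homOfLE (g.preimage_mono e.unop.le)).op (g.app V.unop a) :=
      congr($(g.naturality (homOfLE e.unop.le).op) a)
    rw [pullDer_apply, pullDer_apply, h, OmegaAffLib.der_rs]
    simp only [rs]
    rw [OmegaSh.pullSect_map]
    exact (rs_rs _ _ _ _).trans (rs_rs _ _ _ _).symm
  d_app {O} c := by
    show pullDer i g hgi d ((i ≫ f) ⁻¹ᵁ O.unop) ((i ≫ f).app O.unop c) = 0
    have e : g ⁻¹ᵁ ((i ≫ f) ⁻¹ᵁ O.unop) = f ⁻¹ᵁ O.unop :=
      congrArg (fun k : X ⟶ S => k ⁻¹ᵁ O.unop) hgS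
    have h : g.app ((i ≫ f) ⁻¹ᵁ O.unop) ((i ≫ f).app O.unop c) =
        f.appLE O.unop (g ⁻¹ᵁ ((i ≫ f) ⁻¹ᵁ O.unop)) e.le c := by
      simp only [← ConcreteCategory.comp_apply, Scheme.Hom.app_eq_appLE, Scheme.Hom.appLE_comp_appLE]
      exact congr($(OmegaSh.appLE_congr_hom hgS _ _) c)
    rw [pullDer_apply, h, OmegaAffLib.der_appLE, map_zero]
    exact map_zero _

variable [QuasiCompact i]

include hgi hgS in
/-- the conormal map followed by the retraction -/
theorem exists_splitting (hd : OmegaSh.IsUniversal d) {φ : Omega.conormal i ⟶ (Scheme.Modules.pullback i).obj Ω}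
    (hφ : OmegaSh.IsConormalDiff i d φ) {ΩZ : Z.Modules} {dZ : OmegaSh.Der (i ≫ f) ΩZ}
    (hZ : OmegaSh.IsUniversal dZ) {c : (Scheme.Modules.pullback i).obj Ω ⟶ ΩZ}
    (hc : OmegaSh.IsDiffCompat i d dZ c) :
    ∃ (w : φ ≫ c = 0) (r : (Scheme.Modules.pullback i).obj Ω ⟶ Omega.conormal i)
      (σ : ΩZ ⟶ (Scheme.Modules.pullback i).obj Ω),
      φ ≫ r = 𝟙 _ ∧ σ ≫ c = 𝟙 _ ∧ r ≫ φ + c ≫ σ = 𝟙 _ := by
  obtain ⟨r, hr⟩ := exists_retraction i g hgi hgS hd
  obtain ⟨σ, hσ, -⟩ := hZ _ (sectionDer i g hgi hgS (d := d))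
  have hσ' : ∀ (V : Z.Opens) (b : Γ(Z, V)), σ.app V (dZ.app V b) = pullDer i g hgi d V b := fun V b =>
    congrArg (fun D : OmegaSh.Der (i ≫ f) _ => D.app V b) hσ
  refine ⟨conormal_hom_ext i fun U s => ?_, r, σ, conormal_hom_ext i fun U s => ?_,
    OmegaAffLib.der_hom_ext hZ fun V b => ?_, OmegaAffLib.hom_ext_pullback hd fun U a => ?_⟩
  · rw [Scheme.Modules.Hom.comp_app, ConcreteCategory.comp_apply, hφ U s, hc, app_idealSect, map_zero]
    rfl
  · rw [Scheme.Modules.Hom.comp_app, ConcreteCategory.comp_apply, hφ U s, hr, secSect_idealSect]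
    rfl
  · rw [Scheme.Modules.Hom.comp_app, ConcreteCategory.comp_apply, hσ', pullDer_apply, app_rs, hc]
    exact ((OmegaAffLib.der_rs dZ _ _).symm.trans (congrArg _ (res_app_app i g hgi V b)))
  · have h1 : φ.app (i ⁻¹ᵁ U) (r.app (i ⁻¹ᵁ U) (pullSect i Ω U (d.app U a))) =
        pullSect i Ω U (d.app U a) -
          rs _ (le_preimage_preimage i g hgi (i ⁻¹ᵁ U))
            (pullSect i Ω (g ⁻¹ᵁ (i ⁻¹ᵁ U)) (d.app _ (g.app (i ⁻¹ᵁ U) (i.app U a)))) := by
      rw [hr, secSect, app_rs, hφ, idealSect_lift, secDiff, map_sub, map_sub]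
      simp only [Scheme.Hom.appLE, ConcreteCategory.comp_apply, rs]
      rw [map_sub, OmegaAffLib.der_rs, OmegaAffLib.der_rs]
      simp only [rs]
      rw [OmegaSh.pullSect_map, OmegaSh.pullSect_map]
      congr 1
      · exact (rs_rs _ _ _ _).trans (rs_self _)
      · exact rs_rs _ _ _ _
    rw [Scheme.Modules.Hom.add_app]
    simp only [AddCommGrpCat.hom_add_apply, Scheme.Modules.Hom.comp_app, ConcreteCategory.comp_apply]
    rw [h1, hc, hσ', pullDer_apply, sub_add_cancel]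
    rfl

include hgi hgS in
theorem conormal_seq_split (hd : OmegaSh.IsUniversal d) {φ : Omega.conormal i ⟶ (Scheme.Modules.pullback i).obj Ω}
    (hφ : OmegaSh.IsConormalDiff i d φ) {ΩZ : Z.Modules} {dZ : OmegaSh.Der (i ≫ f) ΩZ}
    (hZ : OmegaSh.IsUniversal dZ) {c : (Scheme.Modules.pullback i).obj Ω ⟶ ΩZ}
    (hc : OmegaSh.IsDiffCompat i d dZ c) :
    ∃ w : φ ≫ c = 0, (ShortComplex.mk φ c w).Exact ∧
      (∃ r : (Scheme.Modules.pullback i).obj Ω ⟶ Omega.conormal i, φ ≫ r = 𝟙 _) ∧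
      ∃ σ : ΩZ ⟶ (Scheme.Modules.pullback i).obj Ω, σ ≫ c = 𝟙 _ := by
  obtain ⟨w, r, σ, h1, h2, h3⟩ := exists_splitting i g hgi hgS hd hφ hZ hc
  exact ⟨w, ({ r := r, s := σ, f_r := h1, s_g := h2, id := h3 } : (ShortComplex.mk φ c w).Splitting).exact,
    ⟨r, h1⟩, σ, h2⟩

omit hgS in
include hgi in
/-- the conormal sheaf of a section is the differentials along it -/
theorem nonempty_conormal_iso {Ω : X.Modules} {d : OmegaSh.Der g Ω} (hd : OmegaSh.IsUniversal d) :
    Nonempty (Omega.conormal i ≅ (Scheme.Modules.pullback i).obj Ω) := by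
  have hgg : g ≫ i ≫ g = g := by rw [hgi, Category.comp_id]
  obtain ⟨φ, hφ⟩ := exists_conormalDiff i d
  obtain ⟨r, hr⟩ := exists_retraction i g hgi hgg hd
  refine ⟨⟨φ, r, conormal_hom_ext i fun U s => ?_, OmegaAffLib.hom_ext_pullback hd fun U a => ?_⟩⟩
  · rw [Scheme.Modules.Hom.comp_app, ConcreteCategory.comp_apply, hφ U s, hr, secSect_idealSect]
    rfl
  · rw [Scheme.Modules.Hom.comp_app, ConcreteCategory.comp_apply, hr, secSect, app_rs, hφ, idealSect_lift,
      secDiff, map_sub, map_sub, OmegaAffLib.der_appLE, map_zero, sub_zero, OmegaAffLib.der_rs]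
    simp only [rs]
    rw [OmegaSh.pullSect_map]
    exact (rs_rs _ _ _ _).trans (rs_self _)

end ConormalSecLib

end
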