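import Groth.Agent.ConormalSecLib.Split
import Groth.Agent.OmegaAffLib.Apps
import Groth.Agent.OmegaAffLib.Universal
import Groth.Prelude.Def_Grpd

/-!
# Differentials of a groupoid along its target map
-/

set_option autoImplicit false
set_option linter.style.haveILetI false
universe u
open CategoryTheory CategoryTheory.Limits AlgebraicGeometry

noncomputable section

namespace ConormalSecLib

/-- translating the differentials at the identity section over a morphism with a division map -/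
theorem nonempty_iso_of_div {X Y P : Scheme.{u}} (t s : X ⟶ Y) [QuasiSeparated t] (e : Y ⟶ X)
    (he : e ≫ t = 𝟙 Y) (p q μ : P ⟶ X) (Δ : X ⟶ P) (h1 : IsPullback q p t t) (h2 : IsPullback μ p t s)
    (hΔq : Δ ≫ q = 𝟙 X) (hΔμ : Δ ≫ μ = s ≫ e) :
    Nonempty ((Scheme.Modules.pullback s).obj (Omega.conormal e) ≅ Omega.sheaf t) := by
  haveI : QuasiSeparated p := MorphismProperty.of_isPullback (P := @QuasiSeparated) h1 inferInstance
  haveI : QuasiCompact (e ≫ t) := by rw [he]; infer_instance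
  haveI : QuasiCompact e := QuasiCompact.of_comp e t
  have hd := OmegaAffLib.isUniversal_dOmega (f := t)
  have hd' := OmegaAffLib.isUniversal_dOmega (f := p)
  obtain ⟨c1, hc1, -⟩ := OmegaAffLib.existsUnique_diffCompat h1.w.symm _ hd (OmegaSh.dOmega p)
  obtain ⟨c2, hc2, -⟩ := OmegaAffLib.existsUnique_diffCompat h2.w.symm _ hd (OmegaSh.dOmega p)
  haveI := OmegaAffLib.isIso_of_isPullback h1 hd hd' hc1
  haveI := OmegaAffLib.isIso_of_isPullback h2 hd hd' hc2
  obtain ⟨κ⟩ := nonempty_conormal_iso e t he hd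
  exact ⟨(Scheme.Modules.pullback s).mapIso κ ≪≫
    (Scheme.Modules.pullbackComp s e).app _ ≪≫ (Scheme.Modules.pullbackCongr hΔμ.symm).app _ ≪≫
    ((Scheme.Modules.pullbackComp Δ μ).app _).symm ≪≫
    (Scheme.Modules.pullback Δ).mapIso (asIso c2 ≪≫ (asIso c1).symm) ≪≫
    (Scheme.Modules.pullbackComp Δ q).app _ ≪≫ (Scheme.Modules.pullbackCongr hΔq).app _ ≪≫
    (Scheme.Modules.pullbackId X).app _⟩

variable {S : Scheme.{u}} (G : Grpd.GroupoidScheme S)

/-- composition of two arrows -/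
abbrev cmp {T : Scheme.{u}} (α β : T ⟶ G.R) (h : α ≫ G.s = β ≫ G.t) : T ⟶ G.R :=
  pullback.lift α β h ≫ G.c

theorem cmp_congr {T : Scheme.{u}} {α α' β β' : T ⟶ G.R} {h : α ≫ G.s = β ≫ G.t} (ha : α = α') (hb : β = β') :
    cmp G α β h = cmp G α' β' (by rw [← ha, ← hb, h]) := by
  subst ha hb; rfl

theorem comp_cmp {T T' : Scheme.{u}} (x : T' ⟶ T) (α β : T ⟶ G.R) (h : α ≫ G.s = β ≫ G.t) :
    x ≫ cmp G α β h = cmp G (x ≫ α) (x ≫ β) (by rw [Category.assoc, h, Category.assoc]) := by
  rw [cmp, ← Category.assoc]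
  congr 1
  apply pullback.hom_ext
  · rw [Category.assoc, pullback.lift_fst, pullback.lift_fst]
  · rw [Category.assoc, pullback.lift_snd, pullback.lift_snd]

theorem cmp_cmp_inv_left {T : Scheme.{u}} (a b : T ⟶ G.R) (h : a ≫ G.t = b ≫ G.t)
    (h₁ : (a ≫ G.i) ≫ G.s = b ≫ G.t) (h₂ : a ≫ G.s = cmp G (a ≫ G.i) b h₁ ≫ G.t) :
    cmp G a (cmp G (a ≫ G.i) b h₁) h₂ = b := by
  have h₃ : a ≫ G.s = (a ≫ G.i) ≫ G.t := by rw [Category.assoc, G.i_t]
  refine (G.assoc a (a ≫ G.i) b h₃ h₁).symm.trans ?_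
  refine (cmp_congr G (h := ((G.comp_s a (a ≫ G.i) h₃).trans h₁)) (G.comp_i a) rfl).trans ?_
  refine Eq.trans ?_ (G.e_comp b)
  exact cmp_congr G (by rw [← Category.assoc, h, Category.assoc]) rfl

theorem cmp_inv_cmp_left {T : Scheme.{u}} (a m : T ⟶ G.R) (h : a ≫ G.s = m ≫ G.t)
    (h' : (a ≫ G.i) ≫ G.s = cmp G a m h ≫ G.t) :
    cmp G (a ≫ G.i) (cmp G a m h) h' = m := by
  have h₃ : (a ≫ G.i) ≫ G.s = a ≫ G.t := by rw [Category.assoc, G.i_s]
  refine (G.assoc (a ≫ G.i) a m h₃ h).symm.trans ?_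
  refine (cmp_congr G (h := ((G.comp_s (a ≫ G.i) a h₃).trans h)) (G.i_comp a) rfl).trans ?_
  refine Eq.trans ?_ (G.e_comp m)
  exact cmp_congr G (by rw [← Category.assoc, h, Category.assoc]) rfl

theorem div_cond : (pullback.fst G.t G.t ≫ G.i) ≫ G.s = pullback.snd G.t G.t ≫ G.t := by
  rw [Category.assoc, G.i_s, pullback.condition]

/-- `(a, b) ↦ a⁻¹ b` -/
def divMap : pullback G.t G.t ⟶ G.R :=
  cmp G (pullback.fst G.t G.t ≫ G.i) (pullback.snd G.t G.t) (div_cond G)

theorem divMap_t : divMap G ≫ G.t = pullback.fst G.t G.t ≫ G.s := by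
  rw [divMap, cmp, G.comp_t, Category.assoc, G.i_t]

theorem mul_cond : pullback.snd G.t G.s ≫ G.s = pullback.fst G.t G.s ≫ G.t :=
  pullback.condition.symm

/-- `(m, a) ↦ (a, a m)` -/
def mulMap : pullback G.t G.s ⟶ pullback G.t G.t :=
  pullback.lift (pullback.snd G.t G.s) (cmp G (pullback.snd G.t G.s) (pullback.fst G.t G.s) (mul_cond G))
    (by rw [cmp, G.comp_t])

theorem isPullback_divMap : IsPullback (divMap G) (pullback.fst G.t G.t) G.t G.s := by
  let e : pullback G.t G.t ≅ pullback G.t G.s :=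
    { hom := pullback.lift (divMap G) (pullback.fst G.t G.t) (divMap_t G)
      inv := mulMap G
      hom_inv_id := by
        apply pullback.hom_ext
        · rw [Category.assoc, mulMap, pullback.lift_fst, pullback.lift_snd, Category.id_comp]
        · rw [Category.assoc, mulMap, pullback.lift_snd, comp_cmp, Category.id_comp]
          refine (cmp_congr G (pullback.lift_snd _ _ _) (pullback.lift_fst _ _ _)).trans ?_
          exact cmp_cmp_inv_left G _ _ pullback.condition _ _
      inv_hom_id := by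
        apply pullback.hom_ext
        · rw [Category.assoc, pullback.lift_fst, divMap, comp_cmp, Category.id_comp]
          refine (cmp_congr G
            (show mulMap G ≫ pullback.fst G.t G.t ≫ G.i = pullback.snd G.t G.s ≫ G.i by
              rw [mulMap, pullback.lift_fst_assoc]) (pullback.lift_snd _ _ _)).trans ?_
          exact cmp_inv_cmp_left G _ _ (mul_cond G) _
        · rw [Category.assoc, pullback.lift_snd, mulMap, pullback.lift_fst, Category.id_comp] }
  exact IsPullback.of_iso_pullback ⟨divMap_t G⟩ e (pullback.lift_fst _ _ _) (pullback.lift_snd _ _ _)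

theorem nonempty_omega_iso [QuasiSeparated G.t] :
    Nonempty ((Scheme.Modules.pullback G.s).obj (Omega.conormal G.e) ≅ Omega.sheaf G.t) := by
  refine nonempty_iso_of_div G.t G.s G.e G.e_t (pullback.fst G.t G.t) (pullback.snd G.t G.t) (divMap G)
    (pullback.diagonal G.t) (IsPullback.of_hasPullback G.t G.t).flip (isPullback_divMap G)
    (pullback.diagonal_snd _) ?_
  rw [divMap, comp_cmp]
  refine Eq.trans ?_ (G.i_comp (𝟙 G.R) |>.trans (Category.id_comp _))
  exact cmp_congr G (by rw [← Category.assoc, pullback.diagonal_fst]) (pullback.diagonal_snd _)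

end ConormalSecLib

end
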